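import Cfsg.Agent.Lib.Spor.Cos.Ru.Order

/-! Four points determining the elements of the group on 4060 points. -/

set_option autoImplicit false
set_option maxRecDepth 100000

namespace Cfsg.Agent.Spor.Cos.RuMult

/-- The four points. -/
def base4 : List ℕ := [0, 20, 2641, 1]

/-- An element fixing four points is trivial. -/
theorem det4 (y : Ru.G4060) (h : ∀ q : Fin Ru.actA.N, (q : ℕ) ∈ base4 → Ru.pi y q = q) : y = 1 :=
  (Ru.lev.1.top (genOf_gen Ru.actA) Ru.card_le).2 y h

end Cfsg.Agent.Spor.Cos.RuMult
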