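import Cfsg.Agent.Lib.Spor.Cos.RuLat.Main
import Cfsg.Agent.Lib.Spor.MultCore

/-!
The perfect double cover of the Rudvalis group inside the automorphism group of its lattice.
-/

set_option autoImplicit false
set_option maxRecDepth 100000

open Cfsg.Spor Cfsg.Agent.Spor.RuMod
open scoped commutatorElement

namespace Cfsg.Agent.Spor.Cos.RuMult

open RuLat

theorem finite_ru : Finite Cfsg.Spor.Ru := Nat.finite_of_card_ne_zero (by rw [card_ru]; norm_num)

theorem finite_fourRu : Finite fourRu := by
  have := finite_ru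
  have : Finite (Subgroup.center fourRu) := Nat.finite_of_card_ne_zero (by rw [card_center]; norm_num)
  exact Finite.of_subgroup_quotient (Subgroup.center fourRu)

theorem perfect_ru : commutator Cfsg.Spor.Ru = ⊤ := by
  have := isSimple_ru
  refine (IsSimpleGroup.eq_bot_or_eq_top_of_normal (commutator Cfsg.Spor.Ru) inferInstance).resolve_left fun h => ?_
  have hcomm : ∀ x y : Cfsg.Spor.Ru, x * y = y * x := fun x y => commutatorElement_eq_one_iff_mul_comm.1
    ((Subgroup.eq_bot_iff_forall _).1 h _ (Subgroup.commutator_mem_commutator (Subgroup.mem_top x) (Subgroup.mem_top y)))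
  have hz : ∀ x : Cos.Ru.G4060, x ∈ Subgroup.center Cos.Ru.G4060 := fun x => Subgroup.mem_center_iff.2 fun y =>
    ruEquiv.symm.injective (by rw [map_mul, map_mul, hcomm])
  have hb := center_G
  have := Cos.Ru.isSimple
  obtain ⟨x, hx⟩ := exists_ne (1 : Cos.Ru.G4060)
  exact hx (Subgroup.mem_bot.1 (hb ▸ hz x))

/-- The quotient map. -/
def mk : fourRu →* Cfsg.Spor.Ru := QuotientGroup.mk' (Subgroup.center fourRu)

theorem mk_ker : mk.ker = Subgroup.center fourRu := QuotientGroup.ker_mk' _

/-- The double cover. -/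
def cover : commutator fourRu →* Cfsg.Spor.Ru := mk.comp (commutator fourRu).subtype

theorem cover_surjective : Function.Surjective cover := by
  intro x
  have h : (commutator fourRu).map mk = ⊤ := by
    rw [commutator_def, Subgroup.map_commutator, Subgroup.map_top_of_surjective mk (QuotientGroup.mk'_surjective _),
      ← commutator_def, perfect_ru]
  obtain ⟨d, hd, e⟩ := (h ▸ Subgroup.mem_top x : x ∈ (commutator fourRu).map mk)
  exact ⟨⟨d, hd⟩, e⟩

theorem le_derived : commutator fourRu ≤ ⁅commutator fourRu, commutator fourRu⁆ := by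
  conv_lhs => rw [commutator_def]
  refine Subgroup.commutator_le.2 fun g _ h _ => ?_
  obtain ⟨⟨a, ha⟩, ea⟩ := cover_surjective (mk g)
  obtain ⟨⟨b, hb⟩, eb⟩ := cover_surjective (mk h)
  rw [Spor.Mult.bracket_congr (σ := mk) mk_ker.le ea.symm eb.symm]
  exact Subgroup.commutator_mem_commutator ha hb

theorem stem : Cfsg.IsStemExtension cover := by
  refine ⟨cover_surjective, fun x hx => ?_, fun x hx => ?_⟩
  · have h : (x : fourRu) ∈ Subgroup.center fourRu := mk_ker ▸ hx
    exact Subgroup.mem_center_iff.2 fun y => Subtype.ext (Subgroup.mem_center_iff.1 h y)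
  · have h : (x : fourRu) ∈ (commutator (commutator fourRu)).map (commutator fourRu).subtype := by
      rw [Subgroup.map_subtype_commutator]
      exact le_derived x.2
    obtain ⟨y, hy, e⟩ := h
    exact Subtype.ext e ▸ hy

theorem rj_rj (v : RuVec) : ruRj (ruRj v) = -v := by
  funext p
  obtain ⟨n, t⟩ := p
  fin_cases t <;> simp [ruRj, ← mul_assoc, show gI * gI = -1 by decide +kernel]

theorem rk_rk (v : RuVec) : ruRk (ruRk v) = -v := by
  funext p
  obtain ⟨n, t⟩ := p
  fin_cases t <;> simp [ruRk, ← mul_assoc, show gI * gI = -1 by decide +kernel]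

theorem rj_rk (v : RuVec) : ruRj (ruRk v) = -ruRk (ruRj v) := by
  funext p
  obtain ⟨n, t⟩ := p
  fin_cases t <;> simp [ruRj, ruRk, ← mul_assoc, show gI * gI = -1 by decide +kernel] <;> ring

theorem norm_rj (v : RuVec) : ruNorm (ruRj v) = ruNorm v := by
  simp only [ruNorm, Fintype.sum_prod_type, Fin.sum_univ_four]
  exact Finset.sum_congr rfl fun n _ => by
    simp [ruRj, Zsqrtd.norm_mul, show gI.norm = 1 by decide +kernel]; ring

theorem norm_rk (v : RuVec) : ruNorm (ruRk v) = ruNorm v := by
  simp only [ruNorm, Fintype.sum_prod_type, Fin.sum_univ_four]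
  exact Finset.sum_congr rfl fun n _ => by
    simp [ruRk, Zsqrtd.norm_mul, show gI.norm = 1 by decide +kernel]; ring

/-- A monomial map squaring to minus one, as an automorphism. -/
def monoAut (o : Fin 4) (hsq : ∀ v, monoMap o (monoMap o v) = -v) (hn : ∀ v, ruNorm (monoMap o v) = ruNorm v) :
    fourRu :=
  ⟨{ toFun := fun v => ⟨monoMap o v, monoMap_mem v.2 o⟩
     invFun := fun v => ⟨-monoMap o v, neg_mem (monoMap_mem v.2 o)⟩
     left_inv := fun v => Subtype.ext (by show -monoMap o (monoMap o v) = _; rw [hsq, neg_neg])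
     right_inv := fun v => Subtype.ext (by show monoMap o (-monoMap o v) = _; rw [map_neg, hsq, neg_neg]) },
    fun v w => Subtype.ext ((monoMap o).map_add v w), fun v => Subtype.ext (monoMap_gI o v), fun v => hn v⟩

/-- Right multiplication by j. -/
def autJ : fourRu := monoAut 0 rj_rj norm_rj

/-- Right multiplication by k. -/
def autK : fourRu := monoAut 1 rk_rk norm_rk

theorem minus_one : ⁅autJ, autK⁆ = scalI ^ 2 := by
  have h : autJ * autK = scalI ^ 2 * (autK * autJ) := by
    refine Subtype.ext (Equiv.ext fun v => Subtype.ext ?_)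
    have e := scalI_pow 2 (act (autK * autJ) v)
    show ruRj (ruRk v) = (act (scalI ^ 2) (act (autK * autJ) v) : RuVec)
    rw [e, pow_two, mul_smul, gI_gI]
    exact rj_rk v
  rw [commutatorElement_def, h]
  group

theorem nontrivial_ker : ∃ x ∈ cover.ker, x ≠ 1 := by
  refine ⟨⟨scalI ^ 2, ?_⟩, ?_, fun h => ?_⟩
  · rw [← minus_one]
    exact Subgroup.commutator_mem_commutator (Subgroup.mem_top _) (Subgroup.mem_top _)
  · show scalI ^ 2 ∈ mk.ker
    rw [mk_ker]
    exact scalI_pow_mem_center 2
  · have := scalI_pow_inj (u := 2) (w := 0) (by norm_num) (by norm_num)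
      ((congrArg Subtype.val h).trans (pow_zero _).symm)
    omega

/-- A stem extension with kernel of order two, given the bound on stem kernels. -/
theorem exists_cover (hgen : ∀ {Δ : Type} [Group Δ] [Finite Δ] (σ : Δ →* Cfsg.Spor.Ru), Cfsg.IsStemExtension σ →
    ∃ c ∈ σ.ker, c ^ 2 = 1 ∧ σ.ker ≤ Subgroup.zpowers c) :
    ∃ (Δ : Type) (_ : Group Δ) (_ : Finite Δ) (q : Δ →* Cfsg.Spor.Ru),
      Cfsg.IsStemExtension q ∧ Nat.card q.ker = 2 := by
  have := finite_fourRu
  refine ⟨_, inferInstance, inferInstance, cover, stem, le_antisymm ?_ ?_⟩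
  · obtain ⟨c, -, hc2, hle⟩ := hgen cover stem
    refine (Subgroup.card_le_of_le hle).trans ?_
    rw [Nat.card_zpowers]
    exact orderOf_le_of_pow_eq_one (by norm_num) hc2
  · obtain ⟨x, hx, hne⟩ := nontrivial_ker
    have : Nontrivial cover.ker := ⟨⟨⟨x, hx⟩, 1, fun e => hne (congrArg Subtype.val e)⟩⟩
    exact Finite.one_lt_card

end Cfsg.Agent.Spor.Cos.RuMult
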