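import Cfsg.Agent.Lib.Grp.SchurM.TailTable

/-! Data of a Sylow 2-subgroup of a group on 4060 points. -/

set_option autoImplicit false
set_option maxRecDepth 100000
set_option maxHeartbeats 8000000

open Cfsg.Agent.Grp.SchurM.Tails

namespace Cfsg.Agent.Spor.Cos.RuMult

/-- Presentation. -/
def pc2 : PC where
  p := 2
  n := 14
  rhs := [[6, 7, 8, 9, 12, 13],
    [0, 1, 3],
    [13],
    [0, 2, 4, 7, 9, 13],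
    [1, 2, 5],
    [4],
    [0, 3],
    [1, 3, 13],
    [2, 3, 6],
    [13],
    [0, 4, 9, 10, 11, 12],
    [1, 4, 7],
    [2, 4],
    [3, 4, 8, 10, 12, 13],
    [10, 11],
    [0, 5, 6, 7, 8, 9, 13],
    [1, 5],
    [2, 5, 7, 12, 13],
    [3, 5, 13],
    [4, 5, 9, 12],
    [],
    [0, 6, 8],
    [1, 6, 11],
    [2, 6, 8, 10, 11, 12],
    [3, 6, 11, 13],
    [4, 6, 10, 13],
    [5, 6, 11, 13],
    [11, 13],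
    [0, 7, 8, 10, 13],
    [1, 7, 12, 13],
    [2, 7, 9],
    [3, 7, 13],
    [4, 7, 11, 12, 13],
    [5, 7, 12, 13],
    [6, 7, 11],
    [12, 13],
    [0, 8, 11],
    [1, 8, 11, 13],
    [2, 8, 10],
    [3, 8, 12],
    [4, 8, 12, 13],
    [5, 8, 11],
    [6, 8, 12],
    [7, 8, 13],
    [],
    [0, 9, 10, 11],
    [1, 9, 12, 13],
    [2, 9, 11, 12],
    [3, 9, 11, 12],
    [4, 9, 12],
    [5, 9, 13],
    [6, 9, 12],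
    [7, 9],
    [8, 9, 13],
    [13],
    [0, 10, 13],
    [1, 10, 11],
    [2, 10, 12, 13],
    [3, 10, 12],
    [4, 10, 13],
    [5, 10, 12, 13],
    [6, 10, 13],
    [7, 10, 13],
    [8, 10],
    [9, 10],
    [],
    [0, 11, 12],
    [1, 11],
    [2, 11, 12, 13],
    [3, 11],
    [4, 11, 13],
    [5, 11],
    [6, 11],
    [7, 11],
    [8, 11],
    [9, 11],
    [10, 11],
    [],
    [0, 12],
    [1, 12],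
    [2, 12, 13],
    [3, 12],
    [4, 12],
    [5, 12],
    [6, 12],
    [7, 12],
    [8, 12],
    [9, 12],
    [10, 12],
    [11, 12],
    [],
    [0, 13],
    [1, 13],
    [2, 13],
    [3, 13],
    [4, 13],
    [5, 13],
    [6, 13],
    [7, 13],
    [8, 13],
    [9, 13],
    [10, 13],
    [11, 13],
    [12, 13],
    []]
  defs := [(3, 1, 0), (4, 2, 2), (5, 2, 1), (6, 3, 2), (7, 4, 1), (8, 6, 0), (9, 7, 2), (10, 8, 2), (11, 4, 4), (12, 8, 3), (13, 1, 1)]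

/-- Words of the generators. -/
def ews2 : List (List ℕ) :=
  [[2, 4, 0, 2, 1, 6, 2, 1, 4, 0, 5, 4, 5, 3],
    [6, 2, 1, 0, 4, 2, 0, 4, 0, 3, 1, 0, 4, 3, 1, 0],
    [2, 5, 6, 2, 0, 6, 2, 4, 0, 5, 1, 6, 3, 4, 3, 1, 0],
    [3, 0, 6, 0, 3, 1, 0, 4, 0, 3, 6, 4, 0, 5, 6, 2, 0],
    [4, 5, 2, 1, 6, 4, 3, 0, 5, 0, 2, 1, 5, 1, 6, 1],
    [5, 5, 2, 0, 6, 2, 1, 6, 2, 0, 4, 3, 4, 1, 3, 5, 4, 2, 1, 0],
    [5, 6, 1, 3, 0, 3, 5, 3, 0, 6, 0, 3, 2, 5, 0],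
    [5, 4, 2, 0, 5, 4, 1, 4, 3, 6, 5, 4, 3, 6, 2, 4, 0],
    [3, 0, 2, 5, 2, 0, 3, 0, 3, 0, 2, 5, 2, 0, 3, 0],
    [4, 2, 6, 1, 4, 0, 3, 4, 0, 5, 0, 4, 5, 0, 3, 1],
    [2, 6, 5, 4, 2, 5, 2, 1, 5, 2, 4, 5, 6, 2, 0],
    [4, 5, 0, 5, 4, 1, 0, 4, 5, 0, 5, 4, 0],
    [3, 6, 4, 2, 3, 0, 2, 0, 3, 2, 6, 4, 3, 0],
    [0]]

/-- Words of the conjugating elements. -/
def gws2 : List (List ℕ) :=
  [[5, 2, 6, 1, 5, 4, 2, 6, 5, 6, 3, 6, 3, 5, 0, 4],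
    [3, 1, 5, 3, 0, 2, 5, 0, 2, 1, 4, 0, 3, 6],
    [6, 1, 4, 2, 4, 3, 5, 0, 5, 3, 4, 2, 4, 1, 6],
    [5, 2, 5, 3, 5, 1, 3, 6, 3, 4, 0, 5, 3, 4, 3, 0],
    [4, 5, 0, 6, 5, 4, 0, 3, 4, 5, 0, 5, 1, 5, 2, 4],
    [2, 5, 0, 4, 3, 4, 1, 5, 6, 1, 3, 5, 6, 1, 3, 2],
    [4, 3, 1, 6, 5, 2, 4, 2, 6, 5, 0, 6, 2, 5, 0],
    [4, 3, 2, 0, 4, 2, 3, 5, 0, 3, 0, 5, 4, 5, 3],
    [6, 1, 3, 0, 4, 2, 5, 2, 5, 2, 4, 0, 3, 1, 6],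
    [2, 4, 5, 1, 5, 2, 1, 4, 0, 5, 6, 5, 2, 4, 0, 3],
    [0, 4, 1, 3, 2, 0, 6, 5, 6, 0, 3, 2, 1, 4, 0],
    [2, 6, 5, 4, 2, 5, 2, 1, 5, 2, 4, 5, 6, 2],
    [1, 3, 2, 0, 1, 4, 5, 4, 1, 0, 3, 2, 1],
    [1, 4, 5, 2, 5, 4, 1, 0, 4, 5, 2, 5, 4, 0],
    [3, 0, 4, 5, 4, 1, 3, 4, 2, 6, 3, 0, 5, 6, 1, 4, 0],
    [1, 3, 6, 0, 5, 4, 2, 4, 5, 0, 6, 3, 1]]

/-- Conjugation data. -/
def conj2 : List Conj :=
  [(0, [11], [10]),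
    (1, [11], [12]),
    (2, [11], [13]),
    (0, [13], [13]),
    (1, [13], [13]),
    (3, [11], [11, 12]),
    (4, [8], [8, 12]),
    (5, [11], [12, 13]),
    (6, [10], [10, 11]),
    (6, [10, 12], [12]),
    (7, [8], [12, 13]),
    (7, [8, 13], [8]),
    (4, [11], [11, 12]),
    (4, [3], [3]),
    (1, [1], [1, 13]),
    (2, [7], [3, 8]),
    (2, [13], [11]),
    (8, [7], [7, 12]),
    (8, [9], [9]),
    (9, [8], [3, 5]),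
    (5, [11, 13], [12]),
    (5, [1], [1, 5]),
    (5, [11, 12], [11]),
    (0, [8, 9, 12], [11]),
    (10, [1], [6, 9, 11]),
    (10, [12], [12]),
    (11, [3, 12], [3]),
    (11, [0], [0, 13]),
    (0, [12], [8, 9, 12, 13]),
    (12, [10], [8, 9, 13]),
    (13, [8], [4, 6, 9, 12]),
    (13, [12], [10]),
    (6, [4, 7], [4]),
    (14, [5], [1, 5, 8]),
    (13, [0], [2, 5, 8, 10]),
    (15, [7], [3, 10, 11, 12]),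
    (15, [8, 10, 12], [13]),
    (7, [10, 11], [0, 5, 10, 13]),
    (6, [0, 7], [0, 3, 7, 11]),
    (15, [11, 12], [3, 7, 10, 12]),
    (1, [5], [1, 3, 8, 10]),
    (15, [3, 10], [3, 10]),
    (12, [8, 12], [0, 2, 3, 4])]

/-- Equations. -/
def eqs2 : List Eqn :=
  [.cons [1, 1, 1] 0 1,
    .cons [2, 2, 2] 0 1,
    .cons [3, 3, 3] 0 1,
    .cons [9, 9, 9] 0 1,
    .fus [0] [0, 0] [],
    .fus [1] [0, 0] [],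
    .fus [2] [0, 0] [],
    .cons [6, 6, 6] 0 1,
    .cons [7, 7, 7] 0 1,
    .fus [3, 0] [0, 1] [1, 0],
    .fus [4, 1] [0, 1] [1, 0],
    .fus [5] [0, 0] [],
    .fus [6] [0, 0] [],
    .fus [7] [0, 0] [],
    .fus [8] [0, 0] [],
    .fus [9] [0, 0] [],
    .fus [10] [0, 0] [],
    .fus [11] [0, 0] [],
    .cons [3, 3, 0] 0 1,
    .cons [5, 1, 1] 0 1,
    .cons [9, 9, 7] 0 1,
    .cons [10, 9, 9] 0 1,
    .cons [13, 2, 2] 0 1,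
    .fus [12, 13] [0, 1] [1, 0],
    .fus [14, 1] [0, 1] [1, 0],
    .fus [15, 2] [0, 1] [1, 0],
    .fus [15, 16] [0, 1] [1, 0],
    .fus [17, 18] [0, 1] [1, 0],
    .cons [4, 4, 4] 0 1,
    .cons [8, 8, 0] 0 1,
    .cons [8, 8, 2] 0 1,
    .cons [8, 5, 5] 0 1,
    .fus [19] [0, 0] [],
    .cons [13, 3, 2] 0 1,
    .cons [8, 2, 2] 0 1,
    .cons [12, 2, 2] 0 1,
    .fus [20, 21] [0, 1] [1, 0],
    .fus [22, 21] [0, 1] [1, 0],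
    .fus [23, 0] [0, 1] [1, 0],
    .fus [24, 25] [0, 1] [1, 0],
    .fus [26, 27] [0, 1] [1, 0],
    .cons [9, 4, 4] 0 1,
    .fus [28, 0] [0, 1] [1, 0],
    .cons [1, 1, 0] 0 1,
    .cons [2, 1, 1] 0 1,
    .cons [7, 2, 2] 0 1,
    .fus [29] [0, 0] [],
    .cons [10, 2, 2] 0 1,
    .cons [4, 1, 1] 0 1,
    .cons [4, 4, 2] 0 1,
    .fus [30, 31] [0, 1] [1, 0],
    .cons [6, 3, 0] 0 1,
    .cons [9, 2, 2] 0 1,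
    .fus [32, 8] [0, 1] [1, 0],
    .cons [3, 2, 1] 0 1,
    .cons [8, 3, 2] 0 1,
    .cons [2, 2, 1] 0 1,
    .cons [3, 3, 2] 0 1,
    .cons [5, 5, 4] 0 1,
    .cons [8, 7, 2] 0 1,
    .cons [9, 4, 1] 0 1,
    .cons [10, 1, 0] 0 1,
    .cons [5, 5, 2] 0 1,
    .cons [4, 2, 1] 0 1,
    .fus [33] [0, 0] [],
    .cons [5, 4, 1] 0 1,
    .cons [6, 4, 1] 0 1,
    .fus [34, 31] [0, 1] [1, 0],
    .fus [35, 36] [0, 1] [1, 0],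
    .cons [6, 1, 0] 0 1,
    .fus [37, 11] [0, 1] [1, 0],
    .cons [9, 3, 2] 0 1,
    .cons [0, 0, 0] 0 1,
    .cons [3, 0, 0] 0 1,
    .cons [5, 3, 2] 0 1,
    .cons [7, 3, 2] 0 1,
    .fus [38, 9] [0, 1] [1, 0],
    .cons [4, 4, 1] 0 1,
    .cons [8, 2, 1] 0 1,
    .cons [9, 1, 0] 0 1,
    .cons [6, 2, 2] 0 1,
    .fus [39] [0, 0] [],
    .fus [40, 14] [0, 1] [1, 0],
    .fus [30] [0, 0] [],
    .cons [3, 2, 2] 0 1,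
    .fus [35, 41] [0, 1] [1, 0],
    .cons [3, 2, 0] 0 1,
    .cons [2, 2, 0] 0 1,
    .cons [4, 0, 0] 0 1,
    .cons [1, 0, 0] 0 1,
    .fus [37] [0, 0] [],
    .cons [2, 1, 0] 0 1,
    .fus [42] [0, 0] []]

/-- Combinations. -/
def combo2 : List (List ℕ) :=
  [[0, 2, 3, 4, 5, 6, 10, 11, 12, 14, 15, 19, 20, 22, 26, 27, 28, 29, 32, 35, 36, 40, 41, 43, 47, 48, 51, 58, 59, 61, 63, 64, 65, 66, 71, 76, 78, 79, 82, 85, 86, 90, 91],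
    [],
    [],
    [1, 2, 7, 8, 10, 14, 15, 16, 17, 21, 23, 24, 27, 28, 30, 31, 33, 34, 35, 37, 40, 42, 44, 47, 53, 54, 58, 59, 60, 62, 63, 64, 73, 74, 75, 76, 78, 79, 83, 87, 89, 90, 91, 92],
    [],
    [],
    [5, 8, 10, 11, 12, 13, 16, 17, 18, 19, 21, 23, 26, 31, 32, 35, 36, 37, 38, 39, 40, 44, 48, 53, 54, 60, 61, 62, 65, 66, 69, 73, 74, 79, 89],
    [0, 4, 6, 10, 13, 15, 16, 17, 21, 29, 35, 38, 40, 41, 42, 49, 64, 67, 78, 82],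
    [],
    [0, 2, 4, 5, 6, 9, 15, 16, 17, 18, 29, 35, 38, 40, 41, 42, 43, 49, 64, 67, 78, 82],
    [0, 1, 2, 3, 4, 6, 14, 15, 17, 18, 21, 22, 23, 24, 25, 28, 30, 31, 35, 37, 40, 42, 43, 45, 51, 53, 69, 73, 79, 81, 82, 87],
    [],
    [1],
    [3, 6, 10, 11, 12, 16, 20, 24, 25, 30, 35, 39, 41, 51, 55, 59, 64, 67, 68, 69, 73, 75, 78, 79, 80, 86],
    [],
    [3, 4, 5, 6, 7, 8, 10, 11, 12, 13, 15, 16, 17, 19, 21, 23, 29, 32, 37, 38, 39, 41, 43, 44, 47, 48, 50, 51, 53, 55, 57, 60, 61, 62, 63, 64, 65, 66, 68, 73, 74, 82, 85, 86, 91],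
    [],
    [4, 5, 6, 13, 15, 16, 20, 29, 30, 40, 43, 44, 49, 51, 56, 61, 62, 64, 67, 78, 81, 82, 85],
    [0, 2, 4, 6, 9, 13, 14, 17, 18, 19, 21, 30, 32, 40, 43, 44, 49, 64, 67, 78, 82],
    [0, 2, 5, 8, 10, 14, 15, 16, 18, 19, 22, 23, 24, 25, 27, 29, 30, 35, 38, 40, 42, 43, 46, 51, 58, 59, 60, 62, 63, 69, 73, 79, 81, 82],
    [5, 6, 14, 15, 21, 29, 30, 35, 38, 41, 42, 44],
    [],
    [6, 7, 15, 17, 20, 23, 29, 31, 32, 37, 38, 39, 41, 42, 43, 44, 46, 47, 49, 50, 51, 52, 53, 54, 57, 59, 66, 69, 71, 74, 80, 82, 83, 85],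
    [0, 2, 3, 5, 6, 11, 13, 15, 17, 18, 20, 21, 26, 27, 38, 41, 46, 47, 50, 51, 52, 55, 61, 68, 71, 75, 83, 84, 85, 86],
    [0, 2, 4, 5, 6, 7, 10, 14, 15, 18, 21, 24, 25, 26, 29, 30, 31, 33, 37, 41, 42, 46, 47, 50, 52, 57, 59, 61, 64, 67, 69, 71, 73, 78, 79, 80, 83, 85],
    [0, 2, 5, 9, 12, 13, 14, 15, 17, 18, 23, 24, 25, 27, 28, 29, 31, 37, 38, 47, 53, 61, 64, 67, 69, 73, 78, 79, 80, 85],
    [0, 2, 4, 5, 6, 7, 9, 13, 18, 20, 23, 31, 35, 37, 39, 40, 46, 47, 50, 51, 52, 53, 57, 59, 64, 66, 67, 69, 71, 74, 78, 80, 83, 85],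
    [0, 2, 4, 6, 10, 18, 24, 25, 26, 31, 33, 35, 37, 38, 46, 47, 50, 52, 59, 61, 64, 67, 69, 71, 73, 78, 79, 80, 83, 85],
    [2, 3, 6, 11, 13, 19, 20, 21, 22, 23, 24, 25, 27, 30, 31, 34, 35, 37, 38, 43, 46, 52, 59, 61, 64, 68, 70, 72, 76, 77, 80, 81, 82, 85, 88],
    [4, 9, 10, 13, 14, 16, 20, 22, 35, 38, 40, 41, 42, 43, 48, 49, 51, 61, 64, 67, 78, 81, 82, 85],
    [],
    [0, 2, 4, 6, 10, 11, 14, 15, 16, 17, 18, 21, 24, 25, 26, 27, 31, 35, 37, 41, 42, 49, 61, 64, 67, 69, 73, 78, 79],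
    [0, 5, 7, 8, 10, 14, 15, 21, 26, 29, 30, 33, 41, 42, 43, 46, 47, 50, 52, 57, 59, 64, 67, 71, 73, 77, 78, 79, 80, 81, 82, 83],
    [0, 4, 5, 6, 13, 14, 16, 19, 20, 21, 24, 35, 36, 38, 40, 41, 42, 43, 49, 51, 61, 62, 64, 67, 78, 81, 82, 85],
    [6, 7, 9, 10, 16, 20, 24, 26, 29, 30, 31, 33, 35, 37, 38, 40, 46, 47, 49, 50, 51, 52, 53, 57, 59, 61, 66, 71, 73, 79, 80, 83, 85],
    [4, 5, 6, 9, 10, 13, 14, 16, 20, 35, 38, 40, 41, 42, 43, 49, 51, 61, 64, 67, 78, 81, 82, 85],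
    [0, 4, 5, 6, 7, 10, 13, 14, 15, 16, 19, 24, 25, 26, 29, 30, 31, 33, 37, 41, 42, 46, 47, 50, 51, 52, 57, 59, 61, 67, 70, 71, 73, 78, 79, 80, 83, 85],
    [0, 4, 6, 7, 9, 13, 14, 15, 24, 25, 26, 30, 31, 33, 37, 41, 42, 46, 47, 50, 51, 52, 57, 59, 61, 64, 67, 71, 73, 78, 79, 80, 83, 85],
    [],
    [],
    [0, 2, 3, 4, 6, 7, 10, 13, 16, 17, 18, 20, 21, 23, 28, 29, 31, 34, 35, 37, 38, 39, 40, 41, 42, 47, 51, 64, 66, 67, 69, 71, 73, 75, 78, 85],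
    [0, 4, 5, 7, 9, 10, 13, 14, 15, 16, 17, 19, 24, 25, 26, 30, 33, 37, 41, 42, 46, 47, 50, 51, 52, 57, 59, 61, 67, 71, 73, 78, 79, 80, 83, 85],
    [0, 2, 4, 5, 6, 9, 12, 13, 14, 15, 17, 18, 20, 21, 26, 29, 33, 35, 38, 41, 47, 50, 51, 55, 61],
    [0, 8, 11, 16, 17, 18, 23, 24, 25, 27, 29, 31, 35, 37, 41, 42, 49, 61, 64, 67, 68, 69, 73, 78, 79, 85],
    [5, 6, 9, 10, 16, 21],
    [3, 4, 6, 7, 8, 9, 14, 16, 20, 22, 24, 25, 26, 29, 31, 33, 34, 37, 40, 42, 43, 47, 49, 50, 51, 57, 61, 69, 71, 76, 77, 81, 82, 83, 85, 88],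
    [0, 3, 4, 6, 8, 9, 10, 15, 16, 19, 20, 21, 22, 24, 27, 29, 30, 35, 36, 40, 43, 49, 51, 60, 61, 62, 64, 65, 67, 78, 81, 82, 85],
    [2, 4, 7, 8, 9, 15, 18, 20, 23, 24, 25, 26, 27, 29, 30, 31, 33, 37, 38, 41, 43, 45, 47, 49, 50, 52, 57, 61, 69, 71, 77, 80, 81, 82, 83, 85],
    [5, 6, 7, 9, 10, 11, 13, 14, 16, 20, 21, 23, 25, 29, 30, 33, 35, 38, 46, 47, 49, 50, 52, 57, 59, 71, 73, 80, 83, 85],
    [3, 6, 7, 10, 11, 13, 14, 15, 20, 24, 25, 27, 29, 30, 35, 39, 40, 41, 42, 51, 52, 53, 61, 66, 71, 75, 79],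
    [2, 3, 4, 6, 10, 14, 18, 20, 23, 25, 31, 36, 37, 38, 42, 46, 49, 58, 59, 61, 64, 67, 69, 73, 78, 79, 85],
    [3, 6, 7, 10, 13, 14, 15, 23, 24, 25, 26, 27, 30, 35, 39, 40, 41, 42, 51, 53, 61, 66, 75, 79],
    [5, 9, 10, 14, 15, 20, 22, 29, 30, 31, 37, 38, 41, 42, 60],
    [0, 2, 10, 14, 16, 17, 18, 20, 23, 24, 25, 27, 31, 37, 38, 42, 49, 59, 61, 64, 67, 69, 73, 78, 79, 85],
    [0, 2, 4, 5, 9, 14, 18, 20, 21, 23, 24, 25, 27, 31, 37, 38, 42, 46, 49, 59, 61, 64, 67, 69, 73, 78, 79, 85],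
    [0, 2, 6, 9, 13, 16, 17, 18, 21, 24, 25, 27, 29, 31, 35, 37, 41, 42, 49, 61, 64, 67, 69, 73, 76, 78, 79, 85],
    [0, 2, 5, 7, 9, 13, 16, 17, 24, 25, 26, 29, 30, 31, 33, 35, 37, 38, 40, 46, 47, 49, 50, 51, 52, 57, 59, 61, 71, 73, 79, 80, 83, 85],
    [0, 2, 3, 5, 7, 9, 16, 17, 18, 20, 23, 28, 29, 31, 35, 37, 38, 39, 40, 41, 42, 47, 51, 64, 66, 67, 69, 71, 73, 75, 78, 85],
    [0, 2, 5, 6, 9, 11, 17, 18, 20, 21, 26, 51, 61],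
    [0, 2, 10, 11, 16, 17, 18, 23, 24, 25, 27, 28, 29, 31, 35, 37, 41, 42, 49, 53, 61, 64, 67, 69, 73, 78, 79, 85],
    [3, 4, 5, 7, 10, 13, 16, 17, 18, 19, 20, 21, 23, 24, 28, 29, 30, 31, 35, 36, 37, 38, 39, 41, 42, 47, 51, 64, 66, 69, 71, 73, 75, 78, 85],
    [0, 2, 4, 6, 10, 12, 16, 17, 18, 21, 23, 24, 25, 27, 28, 29, 30, 31, 33, 35, 37, 41, 49, 50, 53, 61, 64, 67, 69, 73, 78, 79, 85],
    [0, 2, 5, 9, 11, 13, 16, 17, 18, 20, 21, 23, 24, 25, 27, 29, 31, 35, 37, 41, 42, 49, 61, 64, 67, 69, 73, 78, 79, 85],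
    [4, 5, 6, 9, 10, 13, 21, 30],
    [6, 9, 10, 11, 13, 15, 30, 42],
    [4, 5, 6, 9, 10, 13, 21],
    [6, 9, 10, 17, 18, 21, 29, 51],
    [5, 6, 13, 24, 31, 37],
    [0, 2, 3, 7, 11, 13, 16, 17, 18, 20, 21, 23, 28, 29, 31, 35, 37, 38, 39, 40, 41, 42, 47, 49, 51, 64, 66, 67, 69, 71, 73, 75, 78, 85],
    [5, 6, 9, 10, 13, 20, 21, 26, 29],
    [0, 2, 5, 11, 13, 16, 17, 18, 23, 24, 25, 27, 29, 31, 35, 37, 41, 42, 49, 53, 61, 64, 67, 69, 73, 78, 79, 85],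
    [5, 6, 9, 10, 13, 21, 31],
    [7, 33],
    [2, 5, 9, 10, 13, 17, 21, 25],
    [5, 6, 9, 10, 13, 21, 29],
    [6, 9, 10, 11, 13, 14, 21, 29, 38],
    [5, 6, 9, 10, 13, 14, 21],
    [5, 6, 9, 10, 13, 21],
    [2, 40],
    [5, 6, 9, 10, 13, 21, 31, 37],
    [0, 2, 9, 11, 14, 15, 16, 17, 18, 23, 24, 25, 27, 28, 30, 31, 37, 38, 47, 49, 53, 61, 64, 67, 69, 73, 78, 79, 85],
    [23],
    [6, 9, 10, 13, 14, 15, 29, 30, 38, 41, 42],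
    [0, 9, 10, 21, 24, 36],
    [5, 11, 27, 31, 37, 39],
    [8, 20],
    [6, 9, 10, 12, 13, 21],
    [27],
    [4, 5, 6, 9, 10, 13, 15, 21],
    [6, 9, 10, 11, 13, 21],
    [6, 9, 10, 13, 21],
    [18],
    [0],
    [5, 6, 14, 15, 21, 29, 30, 35, 38, 41, 42],
    [2],
    [22],
    [19],
    [33],
    [20],
    [5, 9, 10, 13, 17, 21],
    [3],
    [21],
    [9, 21],
    [9, 10, 21],
    [5, 9, 10, 13, 21]]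

/-- The certificate. -/
def tab2 : TableCert := ⟨pc2, ews2, gws2, conj2, ⟨eqs2, 16, combo2⟩, []⟩

/-- Transversals along the base. -/
def lev2 : List (ℕ × List (List ℕ)) :=
  [(343, [[],
    [4],
    [2],
    [0]]),
    (2070, [[],
    [0, 2, 4, 6, 7, 10, 11, 12, 13]]),
    (24, [[],
    [3, 7, 10, 11, 12, 13],
    [0, 1, 3, 4, 5, 9, 11, 12],
    [4, 5, 6, 9, 12],
    [7, 9, 10, 11, 12, 13],
    [0, 1, 4, 5, 10, 13],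
    [9, 10],
    [0, 1, 3, 4, 5, 7, 8, 10]]),
    (546, [[],
    [0, 1, 3, 8, 9, 10, 11]]),
    (935, [[],
    [6, 13]]),
    (18, [[],
    [11, 13],
    [3, 6, 7, 8, 9, 10, 12],
    [7, 9, 11, 13]]),
    (193, [[],
    [7, 9, 12, 13]]),
    (10, [[],
    [12],
    [8, 12],
    [8]]),
    (0, [[],
    [3, 6, 7, 9, 10]])]

end Cfsg.Agent.Spor.Cos.RuMult
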