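import Cfsg.Agent.Lib.Grp.SchurM.TailChain
import Cfsg.Agent.Lib.Spor.Cos.RuMult.Base
import Cfsg.Agent.Lib.Spor.Cos.Sift

/-! A Sylow 5-subgroup of the group on 4060 points with equations for the tails. -/

set_option autoImplicit false
set_option maxRecDepth 100000
set_option maxHeartbeats 8000000

open Cfsg Cfsg.Agent.Spor.Cos Cfsg.Agent.Grp.SchurM.Tails

namespace Cfsg.Agent.Spor.Cos.RuMult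

/-- Presentation of the Sylow 5-subgroup. -/
def pc5 : PC where
  p := 5
  n := 3
  rhs := [[],
    [0, 1, 2],
    [],
    [0, 2],
    [1, 2],
    []]
  defs := [(2, 1, 0)]

/-- Transversals along the base. -/
def lev5 : List (ℕ × List (List ℕ)) :=
   [(0, [[], [1], [0, 0, 1, 1, 2, 2], [0, 0, 1, 1, 1, 1, 2], [0, 0, 1, 1, 1, 1, 2, 2], [0, 0, 0, 1], [0, 0, 1], [0, 0, 0, 0, 1, 1, 1, 1, 2, 2], [0, 0, 0, 1, 1, 2, 2], [1, 1, 1, 1, 2], [0, 0, 1, 1, 2, 2, 2], [0, 1, 1, 1, 1, 2, 2], [0, 2], [0, 0, 2], [0, 0, 0, 1, 1, 1, 1, 2, 2], [0, 0, 0, 1, 1, 1, 1], [0, 1, 1, 1, 1, 2], [0, 0, 1, 1, 1, 2, 2], [0, 0, 0, 0, 1], [1, 1, 2], [1, 1, 2, 2, 2], [1, 1, 1, 2, 2], [1, 1, 2, 2, 2, 2], [0, 0, 0, 1, 1, 1], [0, 0, 0, 0, 2, 2], [0, 0, 1, 2, 2], [1, 2, 2, 2, 2], [0,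 0, 0, 0, 1, 1, 1, 1, 2, 2, 2], [2], [0, 0, 0, 0, 1, 1, 1, 1], [0, 0, 0, 0, 1, 2, 2], [0, 0, 0, 1, 1, 1, 2, 2], [0, 1, 1, 1, 1, 2, 2, 2, 2], [0, 0, 0, 1, 1, 1, 1, 2, 2, 2], [0, 0, 0, 0, 1, 1, 2, 2], [0, 0, 0, 2, 2], [0, 0, 0, 1, 1, 1, 2, 2, 2], [0, 2, 2], [0, 0, 0, 1, 1, 2, 2, 2, 2], [0, 0, 0, 0, 1, 1, 2, 2, 2, 2], [0, 1, 1, 2, 2], [0, 0, 0, 1, 2, 2, 2, 2], [0, 0, 0, 0, 1, 1, 2, 2, 2], [0, 1, 1, 1, 2, 2, 2], [0, 1, 2, 2, 2, 2], [0, 1, 1], [0, 0, 1, 1, 2], [0, 2, 2, 2], [0, 0, 0, 1, 1, 2], [0, 1], [0, 0, 0, 0], [0, 0, 0, 0, 1, 1, 1, 1, 2], [2, 2], [0, 2, 2, 2, 2], [2, 2, 2, 2], [0, 0, 0, 0, 1, 1, 2], [0, 0, 0, 2, 2, 2], [0, 0, 2, 2, 2, 2], [1, 1, 1, 1], [0, 0, 2, 2], [0, 1, 1, 2, 2, 2], [0, 1, 1, 1, 1], [0, 0, 1, 1, 1, 1, 2, 2, 2, 2], [1, 1, 1],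 [0, 0, 0, 0, 1, 2, 2, 2, 2], [1, 1, 1, 1, 2, 2, 2, 2], [0, 0, 0, 2, 2, 2, 2], [0, 1, 1, 1, 2, 2], [0, 0, 0, 0, 2, 2, 2], [0, 0, 0, 1, 2, 2, 2], [1, 1, 1, 1, 2, 2], [0, 0, 0, 1, 1, 1, 2, 2, 2, 2], [0, 0, 1, 1], [1, 1, 1, 2, 2, 2, 2], [0, 0, 1, 1, 1, 2, 2, 2], [0, 0, 1, 2, 2, 2, 2], [0, 1, 2], [1, 1, 1, 1, 2, 2, 2], [0, 0, 0], [0, 1, 1, 2, 2, 2, 2], [0, 1, 2, 2, 2], [0, 0, 0, 0, 1, 1, 1, 2, 2, 2, 2], [0, 0, 0, 1, 1, 2, 2, 2], [1, 1, 2, 2], [0, 0, 0, 1, 1, 1, 1, 2], [0, 1, 1, 1, 1, 2, 2, 2], [1, 1], [1, 1, 1, 2, 2, 2], [0, 0, 1, 2], [0], [0, 0, 1, 2, 2, 2], [0, 0, 0, 0, 1, 1, 1, 2], [0, 1, 1, 1, 2], [0, 0, 0, 0, 1, 2, 2, 2], [0, 0, 0, 0, 1, 1, 1], [1, 2], [2, 2, 2], [0, 0, 2, 2, 2], [1, 1, 1, 2], [0, 1, 1, 2], [0, 0, 0, 0, 1, 1, 1, 2, 2], [0, 1,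 1, 1], [0, 0, 0, 0, 2], [0, 0, 0, 1, 1], [1, 2, 2, 2], [0, 1, 2, 2], [0, 0, 1, 1, 1, 2], [0, 1, 1, 1, 2, 2, 2, 2], [0, 0, 0, 0, 1, 1], [0, 0, 0, 1, 2, 2], [0, 0, 0, 0, 1, 1, 1, 1, 2, 2, 2, 2], [0, 0, 1, 1, 1, 1], [0, 0, 0, 2], [0, 0, 1, 1, 1, 1, 2, 2, 2], [0, 0, 0, 0, 1, 1, 1, 2, 2, 2], [0, 0, 1, 1, 1, 2, 2, 2, 2], [0, 0, 0, 0, 1, 2], [0, 0, 0, 0, 2, 2, 2, 2], [1, 2, 2], [0, 0, 0, 1, 2], [0, 0, 0, 1, 1, 1, 2], [0, 0, 1, 1, 2, 2, 2, 2], [0, 0, 0, 1, 1, 1, 1, 2, 2, 2, 2], [0, 0, 1, 1, 1], [0, 0]])]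

/-- Conjugation data. -/
def conj5 : List Conj :=
   [(0, [0], [0, 0, 2, 2]),
    (0, [0, 0, 1, 1, 1, 2, 2], [1, 1, 2]),
    (1, [0, 0, 0, 0, 2], [0, 2, 2]),
    (1, [0, 0, 0, 0, 1, 1], [0, 0, 0, 0, 1])]

/-- Equations between tails. -/
def cert5 : Cert where
  eqns := [.cons [1, 1, 1, 1, 1, 0] 0 4,
    .fus [0, 1] [1, 0, 0, 1] [0, 1, 1, 0],
    .fus [0, 1] [0, 0, 0, 0, 0] [],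
    .fus [0, 1] [1, 1, 1, 1, 1] [],
    .fus [2, 3] [1, 0, 0, 1] [0, 1, 1, 0]]
  free := 6
  combo := [[0, 0, 2, 2, 2, 2],
    [],
    [0, 2, 2, 3],
    [4, 4, 4, 4],
    [0, 1, 4],
    [0, 0, 0, 0]]

/-- The certificate. -/
def tab5 : TableCert where
  P := pc5
  ews := [[4, 2, 1, 4, 2, 3, 4, 3, 0, 2, 1, 3, 4, 2, 0, 2, 4, 0, 3, 4, 3],
    [2, 1, 2, 3, 0, 4, 3, 1, 2, 3, 2, 4, 3, 0, 4, 2, 0, 4, 0, 3, 0, 1, 2, 0, 3, 2, 0, 3, 2, 3, 4],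
    [2, 0, 4, 2, 1, 4, 2, 4, 0, 2, 3, 1, 2, 4, 0, 3, 2, 4, 3, 2, 0, 4, 2, 1, 2, 3, 2, 1, 2, 3, 0]]
  gws := [[2, 1, 4, 2, 4, 3, 2, 0, 4, 2, 1, 4, 1, 2, 1, 2, 1, 4, 0, 2, 2, 4, 1, 2, 1, 4, 3, 2, 1, 2],
    [4, 0, 2, 3, 4, 2, 3, 1, 4, 2, 0, 1, 2, 0, 2, 3, 1, 2, 4, 0, 2, 0, 0, 2, 3, 0, 4, 1, 2, 0, 2, 4]]
  C := conj5
  K := cert5
  els := []

theorem tab5_rel : tab5.chkRel Ru.actA base4 = true := by decide +kernel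

theorem tab5_card : tab5.chkChain Ru.actA base4 lev5 = true := by decide +kernel

theorem tab5_tails : tab5.K.check tab5.P tab5.C = true := by decide +kernel

theorem sylow5 : Nonempty (SylowCert Ru.G4060 5) :=
  TableCert.sylowCert_chain Ru.hom (base := base4) (by decide +kernel) det4 Ru.card_eq rfl (by decide) tab5_rel tab5_card tab5_tails
    (le_of_eq rfl) (by decide +kernel)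

end Cfsg.Agent.Spor.Cos.RuMult
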