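import Cfsg.Agent.Lib.Grp.SchurM.TailChain
import Cfsg.Agent.Lib.Spor.Cos.RuMult.Base
import Cfsg.Agent.Lib.Spor.Cos.Sift

/-! A Sylow 7-subgroup of the group on 4060 points with equations for the tails. -/

set_option autoImplicit false
set_option maxRecDepth 100000
set_option maxHeartbeats 8000000

open Cfsg Cfsg.Agent.Spor.Cos Cfsg.Agent.Grp.SchurM.Tails

namespace Cfsg.Agent.Spor.Cos.RuMult

/-- Presentation of the Sylow 7-subgroup. -/
def pc7 : PC where
  p := 7
  n := 1
  rhs := [[]]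
  defs := []

/-- Transversals along the base. -/
def lev7 : List (ℕ × List (List ℕ)) :=
   [(0, [[], [0, 0, 0, 0], [0, 0, 0], [0, 0], [0, 0, 0, 0, 0], [0], [0, 0, 0, 0, 0, 0]])]

/-- Conjugation data. -/
def conj7 : List Conj :=
   [(0, [0, 0, 0, 0, 0], [0])]

/-- Equations between tails. -/
def cert7 : Cert where
  eqns := [.fus [0] [0, 0, 0, 0, 0, 0, 0] []]
  free := 1
  combo := [[0, 0]]

/-- The certificate. -/
def tab7 : TableCert where
  P := pc7
  ews := [[1, 4, 0, 2, 3, 0, 4, 2, 1, 0, 2, 4, 0, 3, 4, 0, 2, 1, 0, 2, 3, 0, 4, 3, 2, 1, 2, 1, 4, 3]]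
  gws := [[0, 3, 4, 1, 2, 3, 2, 4, 1, 4, 3, 2, 3, 4, 2, 1, 4, 0, 2, 1, 0, 2, 1, 3, 4, 2, 1, 2, 4, 2, 4]]
  C := conj7
  K := cert7
  els := []

theorem tab7_rel : tab7.chkRel Ru.actA base4 = true := by decide +kernel

theorem tab7_card : tab7.chkChain Ru.actA base4 lev7 = true := by decide +kernel

theorem tab7_tails : tab7.K.check tab7.P tab7.C = true := by decide +kernel

theorem sylow7 : Nonempty (SylowCert Ru.G4060 7) :=
  TableCert.sylowCert_chain Ru.hom (base := base4) (by decide +kernel) det4 Ru.card_eq rfl (by decide) tab7_rel tab7_card tab7_tails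
    (le_of_eq rfl) (by decide +kernel)

end Cfsg.Agent.Spor.Cos.RuMult
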