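import Cfsg.Agent.Lib.Spor.Cos.RuMult.Tail2
import Cfsg.Agent.Lib.Spor.Cos.RuMult.Tail3
import Cfsg.Agent.Lib.Spor.Cos.RuMult.Tail5
import Cfsg.Agent.Lib.Spor.Cos.RuMult.Tail7
import Cfsg.Agent.Lib.Spor.Cos.RuMult.Tail13
import Cfsg.Agent.Lib.Spor.Cos.RuMult.Tail29
import Cfsg.Agent.Lib.Spor.Cos.RuMult.Cover
import Cfsg.Agent.Lib.Grp.SchurM.SylowBounds

/-! The multiplier of the Rudvalis group is cyclic of order two. -/

set_option autoImplicit false
set_option maxRecDepth 100000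
set_option maxHeartbeats 4000000

open Cfsg Cfsg.Agent.Spor.Cos Cfsg.Agent.Grp.SchurM Cfsg.Agent.Grp.SchurM.Tails

namespace Cfsg.Agent.Spor.Cos.RuMult

/-- Stem kernels are generated by an element of order dividing two. -/
theorem exists_gen {Δ : Type} [Group Δ] [Finite Δ] (σ : Δ →* Cfsg.Spor.Ru) (hσ : Cfsg.IsStemExtension σ) :
    ∃ c ∈ σ.ker, c ^ 2 = 1 ∧ σ.ker ≤ Subgroup.zpowers c := by
  set τ : Δ →* Ru.G4060 := RuLat.ruEquiv.toMonoidHom.comp σ with hτ
  have hker : τ.ker = σ.ker := MonoidHom.ker_comp_of_injective σ RuLat.ruEquiv.toMonoidHom RuLat.ruEquiv.injective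
  have hst : Cfsg.IsStemExtension τ :=
    ⟨RuLat.ruEquiv.surjective.comp hσ.1, hker.symm ▸ hσ.2.1, hker.symm ▸ hσ.2.2⟩
  obtain ⟨S, hS⟩ := sylow2
  have h := exists_gen_of_exp S (fun q hq hne hd => ?_) τ hst
  · rwa [hS, hker] at h
  rw [Ru.card_eq, show 145926144000 = 2 ^ 14 * 3 ^ 3 * 5 ^ 3 * 7 * 13 * 29 by norm_num] at hd
  have key : ∀ r : ℕ, r.Prime → q ∣ r → q = r := fun r hr h => (Nat.prime_dvd_prime_iff_eq hq hr).1 h
  simp only [hq.dvd_mul] at hd
  rcases hd with ((((h2 | h3) | h5) | h7) | h13) | h29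
  · exact absurd (key 2 Nat.prime_two (hq.dvd_of_dvd_pow h2)) hne
  · obtain rfl := key 3 Nat.prime_three (hq.dvd_of_dvd_pow h3); exact sylow3
  · obtain rfl := key 5 (by norm_num) (hq.dvd_of_dvd_pow h5); exact sylow5
  · obtain rfl := key 7 (by norm_num) h7; exact sylow7
  · obtain rfl := key 13 (by norm_num) h13; exact sylow13
  · obtain rfl := key 29 (by norm_num) h29; exact sylow29

theorem multiplier : Cfsg.HasCyclicSchurMultiplier Cfsg.Spor.Ru 2 := by
  classical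
  refine ⟨?_, fun Δ _ _ σ hσ => ?_⟩
  · obtain ⟨Γ, _, _, q, hst, hcard⟩ := exists_cover fun σ hσ => exists_gen σ hσ
    have : Fact (Nat.Prime 2) := ⟨Nat.prime_two⟩
    have := isCyclic_of_prime_card hcard
    exact ⟨Γ, inferInstance, inferInstance, q, hst, ⟨mulEquivOfCyclicCardEq (hcard.trans (by
      rw [Nat.card_eq_fintype_card, Fintype.card_multiplicative, ZMod.card]))⟩⟩
  · obtain ⟨c, hc, hc2, hle⟩ := exists_gen σ hσ
    exact exists_surjective_zmod _ c hc hc2 hle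

end Cfsg.Agent.Spor.Cos.RuMult
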